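import Cfsg.Agent.H940.Cover
import Cfsg.Agent.H940.EngLoc

/-!
# Tools for the rows `Ly`, `O'N`, `Fi24'` of S5906/S5907 (helper256)

* `chkB`, `goodB` : the list of the possible orders of the proper overgroups, congruences first;
* `dvd_normalizer_map`, `dvd_centralizer_map` : subgroups of subgroups;
* `card_sylow_dvd` : Sylow normalizers as items.
-/

set_option autoImplicit false

namespace Cfsg.Agent.H256.Sep

open Subgroup Cfsg.Agent.OrdDiv Cfsg.Agent.H940 Cfsg.Agent.H940.Eng Cfsg.Agent.H940.MaxCls

universe u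

/-- as `Eng.chkO`, the congruences are tested first -/
def chkB (l : List (ℕ × ℕ)) (n a : ℕ) (lD : List (ℕ × ℕ)) (os full : List ℕ) (bd : ℕ) (loc : List LD) (ords : List ℕ) : Bool :=
  (lD.all fun x => isPrimeB x.1) && a * prodl lD == n &&
    (divsT lD).all fun d => (full.any fun p => d % p != 1 % p) || d == 1 || bad l n full bd loc ords (n / d) || os.contains (n / d)

section

variable {G : Type u} [Group G] {l : List (ℕ × ℕ)} {n : ℕ} {ords : List ℕ} {loc : List LD}

theorem ordersB (c : Ctx G l n ords loc) {a : ℕ} (lD : List (ℕ × ℕ)) (os full : List ℕ) (bd : ℕ)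
    (hc : chkB l n a lD os full bd loc ords = true) {K : Subgroup G} (ha : a ∣ Nat.card K)
    (hf : ∀ p ∈ full, Full p K) (hK : K ≠ ⊤) : Nat.card K ∈ os := by
  have := c.fin
  have := c.simple
  unfold chkB at hc
  rw [Bool.and_eq_true, Bool.and_eq_true, List.all_eq_true, beq_iff_eq, List.all_eq_true] at hc
  obtain ⟨⟨h1, h2⟩, h3⟩ := hc
  have hcard := card_mul_index K
  rw [c.card] at hcard
  have hpos : 0 < K.index := Nat.pos_of_ne_zero index_ne_zero_of_finite
  have hapos : 0 < a := Nat.pos_of_ne_zero (by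
    rintro rfl
    rw [zero_mul] at h2
    exact (valid_pos c.val).ne h2)
  have hd : K.index ∣ prodl lD := by
    obtain ⟨z, hz⟩ := ha
    have h4 : z * K.index = prodl lD := by
      apply Nat.eq_of_mul_eq_mul_left hapos
      rw [h2, ← hcard, hz]
      ring
    exact ⟨z, by rw [← h4]; ring⟩
  have h5 := h3 _ (mem_divsT (fun x hx => prime_of (h1 x hx)) hd)
  have h6 : n / K.index = Nat.card K := Nat.div_eq_of_eq_mul_left hpos hcard.symm
  rw [h6, Bool.or_eq_true, Bool.or_eq_true, Bool.or_eq_true, beq_iff_eq, List.contains_iff_mem] at h5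
  rcases h5 with ((h5 | h5) | h5) | h5
  · exfalso
    rw [List.any_eq_true] at h5
    obtain ⟨p, hp, h7⟩ := h5
    obtain ⟨_, P, hP⟩ := hf p hp
    rw [bne_iff_ne] at h7
    exact h7 (MaxCls.index_modEq_one P hP)
  · exact absurd (index_eq_one.1 h5) hK
  · rw [not_bad c.val c.card c.ords c.loc hf hK] at h5
    exact absurd h5 (by decide)
  · exact h5

/-- an item from `chkB` -/
theorem goodB (c : Ctx G l n ords loc) {A : Subgroup G} (hA : A ≠ ⊤) {x : CI} (ha : x.a ∣ Nat.card A)
    (hf : ∀ p ∈ x.full, Full p A) (lD : List (ℕ × ℕ)) (bd : ℕ)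
    (hc : chkB l n x.a lD x.ords x.full bd loc ords = true) : x.Good A := by
  have := c.fin
  exact ⟨hA, ha, hf, fun K hAK hK => ordersB c lD x.ords x.full bd hc (ha.trans (card_dvd_of_le hAK))
    (fun p hp => (hf p hp).mono hAK) hK⟩

/-- the normalizer of a Sylow `p`-subgroup as an item -/
theorem sylow_item (c : Ctx G l n ords loc) {p e q : ℕ} (hp : isPrimeB p = true) (he : e ≠ 0) (hd : p ^ e ∣ n)
    (hq : isPrimeB q = true) (hqp : q ≠ p) (hqn : q ∣ n) :
    ∃ A : Subgroup G, A ≠ ⊤ ∧ p ^ e ∣ Nat.card A ∧ ∀ r ∈ [p], Full r A := by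
  have := c.fin
  have := c.simple
  have hpp := prime_of hp
  have hqq := prime_of hq
  have := Fact.mk hpp
  let P : Sylow p G := default
  have hPd : p ^ e ∣ Nat.card P := by
    rw [P.card_eq_multiplicity]
    apply pow_dvd_pow
    rw [← hpp.pow_dvd_iff_le_factorization Nat.card_pos.ne', c.card]
    exact hd
  refine ⟨normalizer ((P : Subgroup G) : Set G), ?_, hPd.trans (card_dvd_of_le le_normalizer), ?_⟩
  · intro h
    have hn : (P : Subgroup G).Normal := normalizer_eq_top_iff.1 h
    rcases hn.eq_bot_or_eq_top with h1 | h1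
    · have h2 : Nat.card P = 1 := by
        have : Nat.card (P : Subgroup G) = 1 := by rw [h1]; exact card_bot
        exact this
      rw [h2, Nat.dvd_one] at hPd
      exact he ((Nat.pow_eq_one.1 hPd).resolve_left hpp.one_lt.ne')
    · have h2 : Nat.card P = n := by
        have : Nat.card (P : Subgroup G) = Nat.card G := by rw [h1]; exact card_top
        rw [← c.card]
        exact this
      rw [P.card_eq_multiplicity] at h2
      rw [← h2] at hqn
      exact hqp ((Nat.prime_dvd_prime_iff_eq hqq hpp).1 (hqq.dvd_of_dvd_pow hqn))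
  · intro r hr
    rw [List.mem_singleton.1 hr]
    exact full_normalizer hpp P

/-- the normalizer of a subgroup of prime order as an item -/
theorem prime_item (c : Ctx G l n ords loc) {r q : ℕ} (hr : isPrimeB r = true) (hd : r ∣ n)
    (hq : isPrimeB q = true) (hqr : q ≠ r) (hqn : q ∣ n) :
    ∃ A : Subgroup G, A ≠ ⊤ ∧ r ∣ Nat.card A ∧ ∀ p ∈ [r], Full p A := by
  obtain ⟨A, h1, h2, h3⟩ := sylow_item c (e := 1) hr one_ne_zero (by rwa [pow_one]) hq hqr hqn
  exact ⟨A, h1, by rwa [pow_one] at h2, h3⟩

/-- the group is not commutative -/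
theorem not_comm (c : Ctx G l n ords loc) {p q : ℕ} (hp : isPrimeB p = true) (hpn : p ∣ n)
    (hq : isPrimeB q = true) (hqp : q ≠ p) (hqn : q ∣ n) : ¬ ∀ a b : G, a * b = b * a := by
  intro hab
  have := c.fin
  have := c.simple
  obtain ⟨R, hR⟩ := exists_card_eq (G := G) hp (by rw [c.card]; exact hpn)
  have hn : R.Normal := ⟨fun x hx g => by rw [hab g x, mul_assoc, mul_inv_cancel, mul_one]; exact hx⟩
  rcases hn.eq_bot_or_eq_top with h | h
  · rw [h, card_bot] at hR
    exact (prime_of hp).one_lt.ne hR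
  · rw [h, card_top, c.card] at hR
    rw [hR] at hqn
    exact hqp ((Nat.prime_dvd_prime_iff_eq (prime_of hq) (prime_of hp)).1 hqn)

end

/-- the group is not commutative -/
theorem not_comm' {G : Type u} [Group G] [Finite G] [IsSimpleGroup G] {n : ℕ} (hn : Nat.card G = n) {p q : ℕ}
    (hp : isPrimeB p = true) (hpn : p ∣ n) (hq : isPrimeB q = true) (hqp : q ≠ p) (hqn : q ∣ n) :
    ¬ ∀ a b : G, a * b = b * a := by
  intro hab
  obtain ⟨R, hR⟩ := exists_card_eq (G := G) hp (by rw [hn]; exact hpn)
  have hN : R.Normal := ⟨fun x hx g => by rw [hab g x, mul_assoc, mul_inv_cancel, mul_one]; exact hx⟩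
  rcases hN.eq_bot_or_eq_top with h | h
  · rw [h, card_bot] at hR
    exact (prime_of hp).one_lt.ne hR
  · rw [h, card_top, hn] at hR
    rw [hR] at hqn
    exact hqp ((Nat.prime_dvd_prime_iff_eq (prime_of hq) (prime_of hp)).1 hqn)

/-- the covering argument with existentially given subgroups -/
theorem sep_of_items {G : Type u} [Group G] [Finite G] {n k : ℕ} (hn : Nat.card G = n) (L : List CI)
    (h : ∀ x ∈ L, ∃ A : Subgroup G, x.Good A) (hc : covB n (fun _ _ => false) k L = true) : MaxCls.Sep (k + 1) G := by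
  classical
  let A : CI → Subgroup G := fun x => if hx : x ∈ L then Classical.choose (h x hx) else ⊥
  have hA : ∀ x ∈ L, x.Good (A x) := by
    intro x hx
    have h1 : A x = Classical.choose (h x hx) := dif_pos hx
    rw [h1]
    exact Classical.choose_spec (h x hx)
  exact sep_of_cover hn (fun _ _ => false) L A hA (fun x _ y _ hxy => absurd hxy (by decide)) hc

/-! ### Subgroups of subgroups -/

section

variable {G : Type u} [Group G] {L : Subgroup G}

theorem dvd_normalizer_map [Finite G] (R : Subgroup L) :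
    Nat.card (normalizer (R : Set L)) ∣ Nat.card (normalizer ((R.map L.subtype : Subgroup G) : Set G)) := by
  have h3 : (normalizer (R : Set L)).map L.subtype ≤ normalizer ((R.map L.subtype : Subgroup G) : Set G) := by
    rintro _ ⟨a, ha, rfl⟩
    rw [mem_normalizer_iff]
    intro z
    constructor
    · rintro ⟨w, hw, rfl⟩
      exact ⟨_, (mem_normalizer_iff.1 ha w).1 hw, rfl⟩
    · rintro ⟨w, hw, hw'⟩
      have h4 : a⁻¹ * w * a ∈ R := by
        have h5 := (mem_normalizer_iff.1 ha (a⁻¹ * w * a)).2 (by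
          have h6 : a * (a⁻¹ * w * a) * a⁻¹ = w := by group
          rw [h6]
          exact hw)
        exact h5
      refine ⟨_, h4, ?_⟩
      have h7 : (w : G) = (a : G) * z * (a : G)⁻¹ := hw'
      show ((a⁻¹ * w * a : L) : G) = z
      push_cast
      rw [h7]
      group
  rw [← card_map_of_injective L.subtype_injective]
  exact card_dvd_of_le h3

theorem dvd_centralizer_map [Finite G] (R : Subgroup L) :
    Nat.card (centralizer (R : Set L)) ∣ Nat.card (centralizer ((R.map L.subtype : Subgroup G) : Set G)) := by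
  have h3 : (centralizer (R : Set L)).map L.subtype ≤ centralizer ((R.map L.subtype : Subgroup G) : Set G) := by
    rintro _ ⟨a, ha, rfl⟩
    rw [mem_centralizer_iff]
    rintro _ ⟨w, hw, rfl⟩
    exact congrArg Subtype.val ((mem_centralizer_iff.1 ha) w hw)
  rw [← card_map_of_injective L.subtype_injective]
  exact card_dvd_of_le h3

end

end Cfsg.Agent.H256.Sep
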