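import Cfsg.Agent.H256.Sep.Iso
import Cfsg.Agent.H256.Sep.Fast

/-!
# Local data at isolated primes (helper256)

`cnI_sound` : the possible pairs `(|C(R)|, |N(R)|)` for an isolated prime, from the order of the group and the list of the orders of the
simple groups alone.
-/

set_option autoImplicit false

namespace Cfsg.Agent.H256.Sep

open Subgroup Cfsg.Agent.OrdDiv Cfsg.Agent.H940 Cfsg.Agent.H940.Eng Cfsg.Agent.H940.MaxCls

universe u

/-- `x = (e, [(p, p ^ j), ...])` with `p ≠ r` prime and `p ^ j` not dividing `e` -/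
def okE1 (r : ℕ) (x : ℕ × List (ℕ × ℕ)) : Bool :=
  x.2.all fun y => isPrimeB y.1 && y.1 != r && x.1 % y.2 != 0 && y.2 == y.1 ^ (val y.1 100 y.2)

/-- the list of the divisors `e > 1` of `r - 1` -/
def okE (r : ℕ) (es : List (ℕ × List (ℕ × ℕ))) : Bool :=
  es.all (okE1 r) && (List.range r).all fun e => Nat.ble e 1 || (r - 1) % e != 0 || es.any fun x => x.1 == e

def anyK (s c : ℕ) (ps : List (ℕ × ℕ)) : Bool :=
  List.rec (motive := fun _ => Bool) false
    (fun y _ ih => bc (Nat.beq (Nat.mod c y.2) 0) (bc (Nat.beq (Nat.mod s y.1) 1) ih true) ih) ps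

def condK (n r : ℕ) (P : ℕ → ℕ → Bool) (c : ℕ) (x : ℕ × List (ℕ × ℕ)) : Bool :=
  frc (Nat.mul c x.1) fun m => bc (Nat.beq (Nat.mod n m) 0) (frc (Nat.div n m) fun s =>
    bc (Nat.beq (Nat.mod s r) 1) (bc (Nat.beq s 1) true (bc (anyK s c x.2) true (P c m))) true) true

def allK' (f : ℕ × List (ℕ × ℕ) → Bool) (es : List (ℕ × List (ℕ × ℕ))) : Bool :=
  List.rec (motive := fun _ => Bool) true (fun x _ ih => bc (f x) ih false) es

def cnI (n r : ℕ) (l : List (ℕ × ℕ)) (es : List (ℕ × List (ℕ × ℕ))) (P : ℕ → ℕ → Bool) : Bool :=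
  allD (fun c => bc (Nat.beq (Nat.mod c r) 0) (allK' (condK n r P c) es) true) l 1

theorem allK'_mem {f : ℕ × List (ℕ × ℕ) → Bool} {es : List (ℕ × List (ℕ × ℕ))} (h : allK' f es = true) :
    ∀ x ∈ es, f x = true := by
  induction es with
  | nil => intro x hx; exact absurd hx List.not_mem_nil
  | cons y es ih =>
    intro x hx
    have h1 : bc (f y) (allK' f es) false = true := h
    cases h2 : f y
    · rw [h2, bc_false] at h1
      exact absurd h1 Bool.false_ne_true
    · rw [h2, bc_true] at h1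
      rcases List.mem_cons.1 hx with rfl | hx
      · exact h2
      · exact ih h1 x hx

theorem anyK_true {s c : ℕ} {ps : List (ℕ × ℕ)} (h : anyK s c ps = true) : ∃ y ∈ ps, c % y.2 = 0 ∧ s % y.1 ≠ 1 := by
  induction ps with
  | nil => exact absurd h Bool.false_ne_true
  | cons y ps ih =>
    have h1 : bc (Nat.beq (c % y.2) 0) (bc (Nat.beq (s % y.1) 1) (anyK s c ps) true) (anyK s c ps) = true := h
    cases h2 : Nat.beq (c % y.2) 0
    · rw [h2, bc_false] at h1
      obtain ⟨z, hz, h3⟩ := ih h1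
      exact ⟨z, List.mem_cons_of_mem _ hz, h3⟩
    · rw [h2, bc_true] at h1
      cases h4 : Nat.beq (s % y.1) 1
      · refine ⟨y, List.mem_cons_self, Nat.eq_of_beq_eq_true h2, fun h5 => ?_⟩
        rw [h5] at h4
        exact absurd h4 (by decide)
      · rw [h4, bc_true] at h1
        obtain ⟨z, hz, h3⟩ := ih h1
        exact ⟨z, List.mem_cons_of_mem _ hz, h3⟩

theorem bc_cases {b x y : Bool} (h : bc b x y = true) : (b = true ∧ x = true) ∨ (b = false ∧ y = true) := by
  cases b
  · exact Or.inr ⟨rfl, h⟩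
  · exact Or.inl ⟨rfl, h⟩

section

variable {G : Type u} [Group G] {l : List (ℕ × ℕ)} {n : ℕ} {ords : List ℕ}

theorem cnI_sound (c : Ctx G l n ords []) (hna : ¬ ∀ a b : G, a * b = b * a) {r : ℕ} (hr : isPrimeB r = true)
    (h2 : (n % (r ^ 2) != 0) = true) (ho : isoB l n ords r = true) {es : List (ℕ × List (ℕ × ℕ))} (hE : okE r es = true)
    {P : ℕ → ℕ → Bool} (hc : cnI n r l es P = true) {R : Subgroup G} (hR : Nat.card R = r) :
    P (Nat.card (centralizer (R : Set G))) (Nat.card (normalizer (R : Set G))) = true := by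
  have := c.fin
  have := c.simple
  have hrp : r.Prime := prime_of hr
  have := Fact.mk hrp
  have hn := c.card
  have h2' : ¬ r ^ 2 ∣ Nat.card G := by
    rw [hn]
    intro h
    rw [Nat.dvd_iff_mod_eq_zero] at h
    rw [h] at h2
    exact absurd h2 (by decide)
  obtain ⟨e, he, hN⟩ := H904.SylOne.card_nc hR
  obtain ⟨s, hs, hs1⟩ := H904.SylOne.card_normalizer_mod hR h2'
  set cc := Nat.card (centralizer (R : Set G)) with hcdef
  have hrc : r ∣ cc := by
    have hcyc : IsCyclic R := isCyclic_of_prime_card hR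
    have h3 : R ≤ centralizer (R : Set G) := by
      intro x hx
      rw [mem_centralizer_iff]
      intro y hy
      exact congrArg Subtype.val ((IsCyclic.isMulCommutative (α := R)).is_comm.comm (⟨y, hy⟩ : R) ⟨x, hx⟩)
    rw [← hR]
    exact card_dvd_of_le h3
  have hcpos : 0 < cc := Nat.card_pos
  have hNpos : 0 < Nat.card (normalizer (R : Set G)) := Nat.card_pos
  have hepos : 0 < e := Nat.pos_of_ne_zero (by rintro rfl; rw [mul_zero] at hN; exact hNpos.ne' hN)
  have he1 : e ≠ 1 := by
    rintro rfl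
    rw [mul_one] at hN
    apply centralizer_ne_normalizer hna hrp hR h2'
    exact (eq_of_le_of_card_ge (Subgroup.centralizer_le_normalizer _) hN.le).ge
  have her : e < r := by
    have h3 := Nat.le_of_dvd (by have := hrp.two_le; omega) he
    have := hrp.two_le
    omega
  have hcen : n = cc * e * s := by rw [← hn, hs, hN]
  unfold okE at hE
  rw [Bool.and_eq_true, List.all_eq_true, List.all_eq_true] at hE
  obtain ⟨hE1, hE2⟩ := hE
  have h3 := hE2 e (List.mem_range.2 her)
  rw [Bool.or_eq_true, Bool.or_eq_true, Nat.ble_eq, bne_iff_ne, List.any_eq_true] at h3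
  rcases h3 with (h3 | h3) | ⟨x, hx, hxe⟩
  · omega
  · exact absurd (Nat.mod_eq_zero_of_dvd he) h3
  rw [beq_iff_eq] at hxe
  have hcn : cc ∣ prodl l := by
    rw [valid_prod c.val, hcen]
    exact ⟨e * s, by ring⟩
  have h4 := allD_sound (valid_prime c.val) hc hcn
  rw [one_mul] at h4
  have h5 : Nat.beq (Nat.mod cc r) 0 = true := by
    rw [Nat.beq_eq]
    exact Nat.mod_eq_zero_of_dvd hrc
  rw [h5, bc_true] at h4
  have h6 := allK'_mem h4 x hx
  unfold condK at h6
  rw [frc_eq, hxe] at h6
  have h7 : Nat.mul cc e = Nat.card (normalizer (R : Set G)) := hN.symm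
  rw [h7] at h6
  have h8 : Nat.beq (Nat.mod n (Nat.card (normalizer (R : Set G)))) 0 = true := by
    rw [Nat.beq_eq]
    exact Nat.mod_eq_zero_of_dvd ⟨s, by rw [hN]; exact hcen⟩
  have h9 : Nat.div n (Nat.card (normalizer (R : Set G))) = s := by
    apply Nat.div_eq_of_eq_mul_right hNpos
    rw [hN]
    exact hcen
  rw [h8, bc_true, frc_eq, h9] at h6
  rcases bc_cases h6 with ⟨-, h6⟩ | ⟨h10, -⟩
  swap
  · exfalso
    have h11 : Nat.mod s r = 1 := by
      have h12 : s % r = 1 % r := hs1
      rw [Nat.mod_eq_of_lt hrp.one_lt] at h12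
      exact h12
    rw [h11] at h10
    exact absurd h10 (by decide)
  rcases bc_cases h6 with ⟨h10, -⟩ | ⟨-, h6⟩
  · exfalso
    have h11 : s = 1 := Nat.eq_of_beq_eq_true h10
    rw [h11, mul_one, ← card_top] at hs
    have h12 : normalizer (R : Set G) = ⊤ := (card_eq_iff_eq_top _).1 (by rw [← hs, card_top])
    have h13 : R.Normal := normalizer_eq_top_iff.1 h12
    rcases h13.eq_bot_or_eq_top with h | h
    · rw [h, card_bot] at hR
      exact hrp.one_lt.ne hR
    · have h14 : Nat.card G = r := by rw [← hR, h, card_top]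
      have hcyc : IsCyclic G := isCyclic_of_prime_card h14
      exact hna fun a b => (IsCyclic.isMulCommutative (α := G)).is_comm.comm a b
  rcases bc_cases h6 with ⟨h10, -⟩ | ⟨-, h6⟩
  · exfalso
    obtain ⟨y, hy, h11, h12⟩ := anyK_true h10
    have h13 := hE1 x hx
    unfold okE1 at h13
    rw [List.all_eq_true] at h13
    have h14 := h13 y hy
    rw [Bool.and_eq_true, Bool.and_eq_true, Bool.and_eq_true, bne_iff_ne, bne_iff_ne, beq_iff_eq, hxe] at h14
    obtain ⟨⟨⟨h15, h16⟩, h17⟩, h18⟩ := h14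
    have hyp := prime_of h15
    have hF : Full y.1 (normalizer (R : Set G)) := by
      refine full_of_iso hna hrp h2' (fun R' hR' H hRH hH => iso_le c hr h2 ho hR' hRH hH) hR hyp hN ?_
      by_contra hle
      push Not at hle
      apply h17
      apply Nat.mod_eq_zero_of_dvd
      rw [h18]
      have h19 : y.1 ^ (val y.1 100 y.2) ∣ cc := by
        rw [← h18]
        exact Nat.dvd_of_mod_eq_zero h11
      apply (hyp.pow_dvd_iff_le_factorization hepos.ne').2
      exact ((hyp.pow_dvd_iff_le_factorization hcpos.ne').1 h19).trans hle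
    obtain ⟨_, Q, hQ⟩ := hF
    apply h12
    have h20 := MaxCls.index_modEq_one Q hQ
    have h21 : (normalizer (R : Set G)).index = s := by
      have h22 := card_mul_index (normalizer (R : Set G))
      rw [hs] at h22
      exact Nat.eq_of_mul_eq_mul_left hNpos h22
    rw [h21] at h20
    exact mod_eq_one_of hyp h20
  · exact h6

/-- local data at an isolated prime -/
theorem loc_of_iso (c : Ctx G l n ords []) (hna : ¬ ∀ a b : G, a * b = b * a) {r : ℕ} (hr : isPrimeB r = true)
    (h2 : (n % (r ^ 2) != 0) = true) (ho : isoB l n ords r = true) {es : List (ℕ × List (ℕ × ℕ))} (hE : okE r es = true)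
    {C : ℕ} {fN : List (ℕ × ℕ)} (hfN : (fN.all fun x => isPrimeB x.1) = true)
    (hc : cnI n r l es (fun c m => C % c == 0 && (prodl fN) % m == 0) = true) : Loc G ⟨r, C, fN⟩ := by
  rw [List.all_eq_true] at hfN
  refine ⟨prime_of hr, fun x hx => prime_of (hfN x hx), ?_, fun R hR => ?_⟩
  · rw [c.card]
    intro h
    change r ^ 2 ∣ n at h
    rw [Nat.dvd_iff_mod_eq_zero] at h
    rw [h] at h2
    exact absurd h2 (by decide)
  · have h := cnI_sound c hna hr h2 ho hE hc hR
    rw [Bool.and_eq_true, beq_iff_eq, beq_iff_eq] at h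
    exact ⟨Nat.dvd_of_mod_eq_zero h.1, Nat.dvd_of_mod_eq_zero h.2⟩

end

end Cfsg.Agent.H256.Sep
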