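import Cfsg.Agent.H940.EngData
import Cfsg.Agent.H256.Sep.Fast
import Cfsg.Agent.H153.ZerosON
import Cfsg.Agent.SporadicB.ON45Sub
import Cfsg.Agent.S1692

/-!
# Row `O'N` of S5906/S5907 (helper256)

The covering argument with the normalizers of the Sylow subgroups for 3 and 31, the subgroup `L₃(7):2`, the centralizer of an
involution and the subgroup `J₁`.
-/

set_option autoImplicit false
set_option maxRecDepth 100000

namespace Cfsg.Agent.H256.Sep.RowON

open Subgroup Cfsg.Agent.OrdDiv Cfsg.Agent.H940 Cfsg.Agent.H940.Eng Cfsg.Agent.H940.Eng.D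
open Cfsg.Agent.H940.MaxCls Cfsg.Agent.H393.Iso Cfsg.Agent.H163.PG Cfsg.Agent.H149.Sp

abbrev G : Type := Cfsg.Spor.ON

theorem simple : IsSimpleGroup G := Cfsg.Agent.KFacts.ON.Cent.hON.1
theorem card : Nat.card G = n_opn := Cfsg.Agent.KFacts.ON.Cent.hON.2
theorem fin : Finite G := Cfsg.Agent.KFacts.ON.Cent.finite_ON

theorem hna : ¬ ∀ a b : G, a * b = b * a := by
  have := fin
  have := simple
  exact not_comm' card (p := 2) (q := 3) (by decide +kernel) (by decide +kernel) (by decide +kernel) (by decide) (by decide +kernel)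

theorem nonadj : ¬ Adj G 11 31 ∧ ¬ Adj G 11 19 := by
  have := fin
  have hsim := simple
  have hN : Nat.card Cfsg.Spor.ON = 460815505920 := card
  have h : Spor.IsoON Cfsg.Spor.ON := ⟨MulEquiv.refl _⟩
  have n11 : NA 11 Cfsg.Spor.ON := na_on_all h (by norm_num)
  have n31 : NA 31 Cfsg.Spor.ON := na_on_all h (by norm_num)
  have h1 : ¬ Adj Cfsg.Spor.ON 19 31 := Cfsg.Agent.H153.Zeros.ON19.not_adj.1
  have h2 : ¬ Adj Cfsg.Spor.ON 11 31 := Eng.not_adj (r := 11) (s := 31) (a := 9) (M := 1351365120)
    (L := [(3, 4), (5, 1), (7, 3), (19, 1)]) (ks := [2, 3, 5, 6, 10, 15, 30]) (kills := [19]) (by rw [hN])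
    (by decide +kernel) (by norm_num) (by simp; norm_num)
    (by decide) (by decide +kernel) (by decide +kernel) (by decide +kernel) n11 n31 (by simpa using ⟨by norm_num, h1⟩)
  exact ⟨h2, fun h => Cfsg.Agent.H153.Zeros.ON19.not_adj.2 h.symm⟩

theorem not_dvd_of_na {r q : ℕ} (hr : r.Prime) (hq : q.Prime) (hrq : r ≠ q) {R : Subgroup G} (hR : Nat.card R = r)
    (h : ¬ Adj G r q) : ¬ q ∣ Nat.card (centralizer (R : Set G)) := by
  have := fin
  refine Cfsg.Agent.H940.Eng.not_dvd_cent hr hq hR fun y hy hd => ?_
  have := Fact.mk hr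
  obtain ⟨z, hz⟩ := exists_prime_orderOf_dvd_card' r hd
  exact h (adj_of_commute hr hq hrq (x := (z : G)) (by rw [Subgroup.orderOf_coe, hz]) hy
    (mem_centralizer_singleton_iff.1 z.2))

theorem na11 {R : Subgroup G} (hR : Nat.card R = 11) : ¬ 2 ∣ Nat.card (centralizer (R : Set G)) := by
  have := fin
  have h : Spor.IsoON Cfsg.Spor.ON := ⟨MulEquiv.refl _⟩
  have n11 : NA 11 Cfsg.Spor.ON := na_on_all h (by norm_num)
  refine Cfsg.Agent.H940.Eng.not_dvd_cent (by norm_num) Nat.prime_two hR fun y hy hd => ?_
  have := Fact.mk (show Nat.Prime 11 by norm_num)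
  obtain ⟨z, hz⟩ := exists_prime_orderOf_dvd_card' 11 hd
  refine n11 (z : G) y (by rw [Subgroup.orderOf_coe, hz]) hy ?_
  exact mem_centralizer_singleton_iff.1 z.2

/-- the local data -/
def loc : List LD := [⟨19, 19, [(2, 1), (3, 1), (19, 1)]⟩, ⟨11, 509355, [(2, 1), (3, 3), (5, 1), (7, 3), (11, 1)]⟩]

theorem loc19 : Loc G ⟨19, 19, [(2, 1), (3, 1), (19, 1)]⟩ := by
  have := fin
  have := simple
  obtain ⟨R, hR⟩ := exists_card_eq (G := G) (r := 19) (by decide +kernel) (by rw [card]; decide +kernel)
  refine loc_of_cent hna card (by decide +kernel) (by decide +kernel) (fC := [(19, 1)]) (by decide +kernel) hR ?_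
    (by decide +kernel) (by decide +kernel)
  have := Fact.mk (show Nat.Prime 19 by norm_num)
  obtain ⟨x, hx⟩ := exists_prime_orderOf_dvd_card' 19 (dvd_of_eq hR.symm)
  have h1 : Nat.card (centralizer ({(x : G)} : Set G)) = 19 :=
    Cfsg.Agent.H153.Zeros.ON19.card_cent (x := (x : G)) (by rw [Subgroup.orderOf_coe, hx])
  have h2 : Nat.card (centralizer (R : Set G)) ∣ Nat.card (centralizer ({(x : G)} : Set G)) :=
    card_dvd_of_le fun y hy => mem_centralizer_singleton_iff.2 ((mem_centralizer_iff.1 hy x x.2).symm)
  rw [h1] at h2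
  exact h2.trans (by decide +kernel)

theorem loc11 : Loc G ⟨11, 509355, [(2, 1), (3, 3), (5, 1), (7, 3), (11, 1)]⟩ := by
  have := fin
  have := simple
  obtain ⟨R, hR⟩ := exists_card_eq (G := G) (r := 11) (by decide +kernel) (by rw [card]; decide +kernel)
  refine loc_of_cent hna card (by decide +kernel) (by decide +kernel) (fC := [(3, 4), (5, 1), (7, 3), (11, 1)])
    (by decide +kernel) hR ?_ (by decide +kernel) (by decide +kernel)
  have h1 : Nat.card (centralizer (R : Set G)) ∣ n_opn := by
    rw [← card]
    exact card_subgroup_dvd_card _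
  refine (dvd_filter v_opn h1 [2, 19, 31] ?_).trans (by decide +kernel)
  intro p hp
  simp only [List.mem_cons, List.not_mem_nil, or_false] at hp
  rcases hp with rfl | rfl | rfl
  · exact na11 hR
  · exact not_dvd_of_na (by norm_num) (by norm_num) (by norm_num) hR nonadj.2
  · exact not_dvd_of_na (by norm_num) (by norm_num) (by norm_num) hR nonadj.1

theorem ctx (B : Base) : Ctx G l_opn n_opn o_opn loc where
  fin := fin
  simple := simple
  card := card
  val := v_opn
  nodup := nd_opn
  ords := ords_opn B
  loc := by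
    intro ld hld
    simp only [loc, List.mem_cons, List.not_mem_nil, or_false] at hld
    rcases hld with rfl | rfl
    · exact loc19
    · exact loc11

/-- precomputed data for 19 -/
def F19 : FD := ⟨19, [19, 38, 57, 114], [(19, 1), (19, 2), (19, 3), (19, 6), (175560, 1), (1876896, 1), (1876896, 2), (5515776, 1), (5515776, 2), (460815505920, 1)], [(2, 1024), (3, 243), (5, 25), (7, 343), (11, 121), (31, 961)]⟩

/-- precomputed data for 11 -/
def F11 : FD := ⟨11, [11, 22, 33, 55, 66, 77, 99, 110, 154, 165, 198, 231, 297, 330, 385, 462, 495, 539, 594, 693, 770, 990, 1078, 1155, 1386, 1485, 1617, 2079, 2310, 2695, 2970, 3234, 3465, 3773, 4158, 4851, 5390, 6930, 7546, 8085, 9702, 10395, 11319, 14553, 16170, 18865, 20790, 22638, 24255, 29106, 33957, 37730, 48510, 56595, 67914, 72765, 101871, 113190, 145530, 169785, 203742, 339570, 509355, 1018710], [(11, 1), (11, 2), (11, 3), (11, 5), (11, 6), (11, 7), (11, 9), (11, 10), (11, 14), (11, 15), (11, 18), (11, 21), (11, 27), (11, 30), (11, 35), (11, 42), (11, 45), (11, 49), (11, 54), (11,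 63), (11, 70), (11, 90), (11, 98), (11, 105), (11, 126), (11, 135), (11, 147), (11, 189), (11, 210), (11, 245), (11, 270), (11, 294), (11, 315), (11, 343), (11, 378), (11, 441), (11, 490), (11, 630), (11, 686), (11, 735), (11, 882), (11, 945), (11, 1029), (11, 1323), (11, 1470), (11, 1715), (11, 1890), (11, 2058), (11, 2205), (11, 2646), (11, 3087), (11, 3430), (11, 4410), (11, 5145), (11, 6174), (11, 6615), (11, 9261), (11, 10290), (11, 13230), (11, 15435), (11, 18522), (11, 30870), (11, 46305), (11, 92610), (660, 1), (660, 2), (660, 3), (660, 6), (660, 7), (660, 9), (660, 14), (660, 18), (660, 21), (660, 27), (660, 42), (660, 49), (660, 54), (660, 63), (660, 98), (660, 126), (660, 147), (660, 189), (660, 294), (660, 343), (660, 378), (660, 441), (660, 686), (660, 882), (660, 1029), (660, 1323), (660, 2058), (660, 2646), (660, 3087), (660, 6174), (660, 9261), (660, 18522), (7920, 1), (7920, 2), (7920, 3), (7920, 6), (7920, 7), (7920, 9), (7920, 14), (7920, 18), (7920, 21), (7920, 27), (7920, 42), (7920, 49), (7920, 54), (7920, 63),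 (7920, 98), (7920, 126), (7920, 147), (7920, 189), (7920, 294), (7920, 343), (7920, 378), (7920, 441), (7920, 686), (7920, 882), (7920, 1029), (7920, 1323), (7920, 2058), (7920, 2646), (7920, 3087), (7920, 6174), (7920, 9261), (7920, 18522), (32736, 1), (32736, 3), (32736, 5), (32736, 7), (32736, 9), (32736, 15), (32736, 21), (32736, 35), (32736, 45), (32736, 49), (32736, 63), (32736, 105), (32736, 147), (32736, 245), (32736, 315), (32736, 343), (32736, 441), (32736, 735), (32736, 1029), (32736, 1715), (32736, 2205), (32736, 3087), (32736, 5145), (32736, 15435), (95040, 1), (95040, 2), (95040, 3), (95040, 5), (95040, 6), (95040, 7), (95040, 9), (95040, 10), (95040, 14), (95040, 18), (95040, 21), (95040, 27), (95040, 35), (95040, 42), (95040, 49), (95040, 54), (95040, 63), (95040, 70), (95040, 98), (95040, 126), (95040, 147), (95040, 189), (95040, 245), (95040, 294), (95040, 343), (95040, 378), (95040, 441), (95040, 490), (95040, 686), (95040, 882), (95040, 1029), (95040, 1323), (95040, 1715), (95040, 2058), (95040, 2646), (95040,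 3087), (95040, 3430), (95040, 6174), (95040, 9261), (95040, 18522), (175560, 1), (175560, 2), (175560, 3), (175560, 5), (175560, 6), (175560, 7), (175560, 9), (175560, 10), (175560, 14), (175560, 15), (175560, 18), (175560, 21), (175560, 27), (175560, 30), (175560, 35), (175560, 42), (175560, 45), (175560, 49), (175560, 63), (175560, 70), (175560, 90), (175560, 98), (175560, 105), (175560, 126), (175560, 147), (175560, 189), (175560, 210), (175560, 245), (175560, 294), (175560, 315), (175560, 343), (175560, 441), (175560, 490), (175560, 630), (175560, 735), (175560, 882), (175560, 1029), (175560, 1323), (175560, 1470), (175560, 2205), (175560, 3087), (175560, 4410), (175560, 9261), (443520, 1), (443520, 2), (443520, 3), (443520, 5), (443520, 6), (443520, 7), (443520, 9), (443520, 14), (443520, 15), (443520, 18), (443520, 21), (443520, 27), (443520, 35), (443520, 42), (443520, 49), (443520, 54), (443520, 63), (443520, 98), (443520, 105), (443520, 126), (443520, 147), (443520, 189), (443520, 245), (443520, 294), (443520, 343), (443520,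 378), (443520, 441), (443520, 686), (443520, 735), (443520, 882), (443520, 1029), (443520, 1323), (443520, 2058), (443520, 2646), (443520, 3087), (443520, 6174), (443520, 9261), (443520, 18522), (460815505920, 1), (460815505920, 2), (460815505920, 3), (460815505920, 5), (460815505920, 6), (460815505920, 7), (460815505920, 9), (460815505920, 10), (460815505920, 14), (460815505920, 15), (460815505920, 18), (460815505920, 21), (460815505920, 27), (460815505920, 30), (460815505920, 35), (460815505920, 42), (460815505920, 45), (460815505920, 49), (460815505920, 54), (460815505920, 63), (460815505920, 70), (460815505920, 90), (460815505920, 98), (460815505920, 105), (460815505920, 126), (460815505920, 135), (460815505920, 147), (460815505920, 189), (460815505920, 210), (460815505920, 245), (460815505920, 294), (460815505920, 315), (460815505920, 343), (460815505920, 441), (460815505920, 490), (460815505920, 630), (460815505920, 735), (460815505920, 882), (460815505920, 945), (460815505920, 1029), (460815505920, 1323), (460815505920, 1470),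 (460815505920, 1715), (460815505920, 2205), (460815505920, 3087), (460815505920, 4410), (460815505920, 9261)], [(2, 1024), (81, 243), (19, 361), (31, 961)]⟩

def Fs : List FD := [F19, F11]

def gds : List (List (ℕ × ℕ × ℕ)) := [[(2, 1, 10), (3, 1, 5), (5, 1, 2), (7, 1, 3), (11, 1, 2), (31, 1, 2)], [(2, 1, 10), (3, 4, 5), (19, 1, 2), (31, 1, 2)]]

theorem okF : okAll Fs loc o_opn gds = true := by decide +kernel

def iH : CI := ⟨0, 3753792, [], [3753792]⟩

def iJ1 : CI := ⟨1, 175560, [], [175560]⟩

def iP31 : CI := ⟨2, 31, [31], [465, 3348, 9114, 14880, 29295, 107136, 291648, 574182, 937440, 2551920, 4812192, 18373824, 81661440, 303168096]⟩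

def iC2 : CI := ⟨3, 161280, [], [161280, 483840, 1128960, 1451520, 3386880, 4999680, 7902720, 10160640, 14999040, 23708160, 34997760, 44997120, 71124480, 104993280, 244984320, 314979840, 734952960, 2204858880]⟩

def iP3 : CI := ⟨4, 81, [3], [162, 405, 648, 1134, 1620, 2592, 2835, 4536, 5022, 6480, 7938, 8910, 10368, 11340, 12555, 18144, 19845, 20088, 25920, 31752, 35154, 35640, 41472, 43659, 45360, 50220, 55566, 62370, 72576, 79380, 80352, 87885, 103680, 127008, 138915, 140616, 142560, 181440, 200880, 222264, 246078, 249480, 290304, 305613, 317520, 321408, 351540, 436590, 508032, 555660, 562464, 570240, 615195, 725760, 803520, 889056, 984312, 997920, 1270080, 1285632, 1406160, 1722546, 1746360, 2032128, 2222640, 2249856, 2460780, 3056130, 3214080, 3556224, 3937248, 3991680, 4306365, 4419360, 5080320, 5515776, 5624640, 6890184, 6985440, 8890560, 8999424, 9843120, 12224520, 14224896, 15748992, 17225460, 22498560, 27560736, 27941760, 30935520, 35562240, 39372480, 48898080, 62995968, 68901840, 110242944, 157489920, 195592320, 216548640,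 275607360, 440971776, 1102429440, 1515840480]⟩

def items : List CI := [iH, iJ1, iP31, iC2, iP3]

theorem chkH : chkF n_opn iH.a [(2, 3), (3, 2), (5, 1), (11, 1), (31, 1)] iH.ords iH.full 60 Fs = true := by decide +kernel

theorem chkJ1 : chkF n_opn iJ1.a [(2, 6), (3, 3), (7, 2), (31, 1)] iJ1.ords iJ1.full 60 Fs = true := by decide +kernel

theorem chkP31 : chkF n_opn iP31.a [(2, 9), (3, 4), (5, 1), (7, 3), (11, 1), (19, 1)] iP31.ords iP31.full 60 Fs = true := by decide +kernel

theorem chkC2 : chkF n_opn iC2.a [(3, 2), (7, 2), (11, 1), (19, 1), (31, 1)] iC2.ords iC2.full 60 Fs = true := by decide +kernel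

theorem chkP3 : chkF n_opn iP3.a [(2, 9), (5, 1), (7, 3), (11, 1), (19, 1), (31, 1)] iP3.ords iP3.full 60 Fs = true := by decide +kernel

theorem cov : covB n_opn (fun _ _ => false) 4 items = true := by decide +kernel

theorem good (B : Base) : ∀ x ∈ items, ∃ A : Subgroup G, x.Good A := by
  have c := ctx B
  intro x hx
  simp only [items, List.mem_cons, List.not_mem_nil, or_false] at hx
  rcases hx with rfl | rfl | rfl | rfl | rfl
  · have hi := Cfsg.Agent.S1692.result
    refine ⟨_, goodF c okF (A := ((Subgroup.closure ({Cfsg.Spor.ON.a, Cfsg.Spor.ON.b, Cfsg.Spor.ON.c, Cfsg.Spor.ON.d,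
      Cfsg.Spor.ON.e, Cfsg.Spor.ON.f} : Set (FreeGroup Cfsg.Spor.ON.Gen))).map
      (PresentedGroup.mk (Cfsg.Spor.coxRelators Cfsg.Spor.ON.edges ∪ {r | r ∈ Cfsg.Spor.ON.extra})))) ?_ ?_
      (fun p hp => absurd hp List.not_mem_nil) _ _ chkH⟩
    · intro h
      rw [h, index_top] at hi
      omega
    · have h1 := card_mul_index ((Subgroup.closure ({Cfsg.Spor.ON.a, Cfsg.Spor.ON.b, Cfsg.Spor.ON.c, Cfsg.Spor.ON.d,
        Cfsg.Spor.ON.e, Cfsg.Spor.ON.f} : Set (FreeGroup Cfsg.Spor.ON.Gen))).map
        (PresentedGroup.mk (Cfsg.Spor.coxRelators Cfsg.Spor.ON.edges ∪ {r | r ∈ Cfsg.Spor.ON.extra})))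
      rw [hi] at h1
      have h2 : Nat.card G = 3753792 * 122760 := by rw [card]; decide +kernel
      change _ = Nat.card G at h1
      rw [h2] at h1
      rw [Nat.eq_of_mul_eq_mul_right (by norm_num) h1]
      exact dvd_rfl
  · have h1 := (Cfsg.Agent.SporadicB.ON45Sub.isJ1 simple).2
    refine ⟨Subgroup.closure {Cfsg.Agent.SporadicB.ON45Sub.xA, Cfsg.Agent.SporadicB.ON45Sub.xB}, goodF c okF ?_ ?_
      (fun p hp => absurd hp List.not_mem_nil) _ _ chkJ1⟩
    · intro h
      rw [h, card_top] at h1
      exact absurd (card.symm.trans h1) (by decide +kernel)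
    · rw [h1]
      exact dvd_rfl
  · obtain ⟨A, h1, h2, h3⟩ := prime_item c (r := 31) (q := 2) (by decide +kernel) (by decide +kernel) (by decide +kernel) (by decide) (by decide +kernel)
    exact ⟨A, goodF c okF h1 h2 h3 _ _ chkP31⟩
  · have h1 := Cfsg.Agent.KFacts.ON.Cent.card_cent
    refine ⟨centralizer ({Cfsg.Agent.SporadicB.ON45Word.on .f} : Set G), goodF c okF ?_ ?_
      (fun p hp => absurd hp List.not_mem_nil) _ _ chkC2⟩
    · intro h
      rw [h, card_top] at h1
      exact absurd (card.symm.trans h1) (by decide +kernel)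
    · rw [h1]
      exact dvd_rfl
  · obtain ⟨A, h1, h2, h3⟩ := sylow_item c (p := 3) (e := 4) (q := 2) (by decide +kernel) (by decide) (by decide +kernel) (by decide +kernel) (by decide) (by decide +kernel)
    exact ⟨A, goodF c okF h1 h2 h3 _ _ chkP3⟩

/-- five classes of maximal subgroups of `O'N` -/
theorem five (B : Base) : MaxCls.Sep 5 Cfsg.Spor.ON := by
  have := fin
  exact sep_of_items card items (good B) cov

end Cfsg.Agent.H256.Sep.RowON
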